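import Cfsg.Agent.H373.OC.PSUFour
import Cfsg.Agent.H402.Rec.Spec

/-!
# Covers of `PSU_4(q)`, `q ≡ 3 mod 4`, in the defining characteristic `p ≥ 5` (helper373)
-/

set_option autoImplicit false
set_option linter.unusedSectionVars false

namespace Cfsg.Agent.H373.OC

open Finset Cfsg Cfsg.Agent.H371.Frob Cfsg.Agent.H403 Cfsg.Agent.H403.NumTop

universe u v w

/-- **An element of order `p * orderOf x`**, for one prime. -/
theorem exists_orderOf_mul_at {H : Type u} [Group H] [Finite H] (V : Subgroup H) [V.Normal]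
    (hVc : ∀ x ∈ V, ∀ y ∈ V, x * y = y * x) {p : ℕ} (hp : p.Prime) (hVp : ∀ x ∈ V, x ^ p = 1) (hne : V ≠ ⊥)
    {L : Type v} [Group L] (f : L ≃* H ⧸ V) {P : L → Prop}
    (hcov : ∀ (W : Type u) [AddCommGroup W] [Finite W] [Nontrivial W], (∀ v : W, p • v = 0) →
      ∀ φ : L →* AddMonoid.End W, ∃ (x : L) (v : W), ∑ i ∈ range (orderOf x), φ (x ^ i) v ≠ 0 ∧ P x) :
    ∃ (x : L) (h : H), orderOf h = p * orderOf x ∧ P x := by
  have hV : IsMulCommutative V := ⟨⟨fun a b => Subtype.ext (hVc a a.2 b b.2)⟩⟩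
  let _ : CommGroup V := { (inferInstance : Group V) with mul_comm := fun a b => Subtype.ext (hVc a a.2 b b.2) }
  have hnt : Nontrivial (Additive V) := by
    have : Nontrivial V := (Subgroup.nontrivial_iff_ne_bot V).2 hne
    exact inferInstanceAs (Nontrivial V)
  have hfinV : Finite (Additive V) := inferInstanceAs (Finite V)
  let φ : L →* AddMonoid.End (Additive V) := Recog.act V hV f.toMonoidHom (fun a b => rfl)
  have hφ : ∀ (l : L) (g : H), (g : H ⧸ V) = f l → ∀ v : V, (((φ l (Additive.ofMul v)).toMul : V) : H) = g * v * g⁻¹ := by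
    intro l g hg v
    show ((quotAct V hV (f l) v : V) : H) = _
    rw [← hg]
    exact quotAct_mk V hV g v
  obtain ⟨x, v, hsum, hno⟩ := hcov (Additive V) (fun v => by
    show Additive.ofMul (v.toMul ^ p) = 0
    have h1 : v.toMul ^ p = 1 := Subtype.ext (hVp _ v.toMul.2)
    rw [h1]; rfl) φ
  obtain ⟨g, hg⟩ := QuotientGroup.mk_surjective (f x)
  set m := orderOf x with hm
  -- powers
  have hpow : ∀ (z : V) (k : ℕ), ((z : H) * g) ^ k =
      (((∑ i ∈ range k, φ (x ^ i) (Additive.ofMul z)).toMul : V) : H) * g ^ k := by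
    intro z k
    induction k with
    | zero => rw [pow_zero, pow_zero, range_zero, sum_empty, mul_one]; rfl
    | succ k ih =>
      rw [pow_succ, ih, sum_range_succ]
      have h1 : ((g ^ k : H) : H ⧸ V) = f (x ^ k) := by rw [QuotientGroup.mk_pow, hg, map_pow]
      have h2 := hφ (x ^ k) (g ^ k) h1 z
      show _ = ((((∑ i ∈ range k, φ (x ^ i) (Additive.ofMul z)).toMul * (φ (x ^ k) (Additive.ofMul z)).toMul : V)) : H) * g ^ (k + 1)
      rw [Subgroup.coe_mul, h2, pow_succ]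
      group
  have hordf : orderOf (f x) = m := MulEquiv.orderOf_eq f x
  have hgm : g ^ m ∈ V := by
    rw [← QuotientGroup.eq_one_iff, QuotientGroup.mk_pow, hg, ← hordf, pow_orderOf_eq_one]
  -- the element
  obtain ⟨h, hh, hhm⟩ : ∃ h : H, (h : H ⧸ V) = f x ∧ h ^ m ≠ 1 := by
    by_cases h1 : g ^ m = 1
    · refine ⟨((v.toMul : V) : H) * g, ?_, ?_⟩
      · rw [QuotientGroup.mk_mul, hg, (QuotientGroup.eq_one_iff _).2 v.toMul.2, one_mul]
      · rw [hpow, h1, mul_one]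
        intro h2
        apply hsum
        have h3 : (∑ i ∈ range m, φ (x ^ i) v).toMul = (1 : V) := Subtype.ext h2
        exact congrArg Additive.ofMul h3
    · exact ⟨g, hg, h1⟩
  have hhV : h ^ m ∈ V := by
    rw [← QuotientGroup.eq_one_iff, QuotientGroup.mk_pow, hh, ← hordf, pow_orderOf_eq_one]
  refine ⟨x, h, ?_, hno⟩
  have h1 : m ∣ orderOf h := by
    rw [← hordf, ← hh]
    exact orderOf_map_dvd (QuotientGroup.mk' V) h
  have h2 : orderOf h ∣ m * p := by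
    apply orderOf_dvd_of_pow_eq_one
    rw [pow_mul, hVp _ hhV]
  obtain ⟨j, hj⟩ := h1
  have hmpos : 0 < m := by
    rcases Nat.eq_zero_or_pos m with h0 | h0
    · rw [h0, zero_mul] at hj
      have := orderOf_pos h
      omega
    · exact h0
  rw [hj] at h2
  rcases (Nat.dvd_prime hp).1 (Nat.dvd_of_mul_dvd_mul_left hmpos h2) with h3 | h3
  · exfalso
    apply hhm
    rw [h3, mul_one] at hj
    rw [← hj, pow_orderOf_eq_one]
  · rw [hj, h3, mul_comm]

/-- The `p`-part of the spectrum, `p ≥ 5`. -/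
theorem dvd_of_dvd {F : Type u} [Field F] [Fintype F] {q p : ℕ} (hF : Fintype.card F = q ^ 2) (hp : p.Prime) (h5 : 5 ≤ p)
    [CharP F p] (hpq : p ∣ q) (g : PSU 4 F q) (hg : p ∣ orderOf g) : orderOf g ∣ (q ^ 2 - 1) * p := by
  classical
  have hq : 2 ≤ q := ClassicalGeometry.GUBasic.two_le hF
  have hq2 : 0 < q ^ 2 - 1 := by
    have : 2 ^ 2 ≤ q ^ 2 := Nat.pow_le_pow_left hq 2
    omega
  have hL : IsL (PSU 4 F q) false 4 q F := ⟨MulEquiv.refl _⟩
  have hLin := hL.lin (E := AlgebraicClosure F) (by simpa using hF) (by norm_num)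
  rcases H402.Rec.spec_gen hLin (by simpa using hF) g with h | h | ⟨M, hdet, hM, hMk, hy⟩
  · exfalso
    have h1 : p ∣ q ^ 3 + 1 := hg.trans ((Dvd.intro _ rfl).trans h)
    have h2 : p ∣ 1 := (Nat.dvd_add_right (dvd_pow hpq (by norm_num))).1 h1
    exact hp.one_lt.ne' (Nat.dvd_one.1 h2)
  · exfalso
    have h1 : p ∣ (q ^ 2 + 1) * (q - 1) := hg.trans ((Dvd.intro _ rfl).trans h)
    rcases hp.dvd_mul.1 h1 with h2 | h2
    · have h3 : p ∣ 1 := (Nat.dvd_add_right (dvd_pow hpq (by norm_num))).1 h2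
      exact hp.one_lt.ne' (Nat.dvd_one.1 h3)
    · have h3 : p ∣ (q - 1) + 1 := by rwa [Nat.sub_add_cancel (by omega)]
      have h4 : p ∣ 1 := (Nat.dvd_add_right h2).1 h3
      exact hp.one_lt.ne' (Nat.dvd_one.1 h4)
  · apply orderOf_dvd_of_pow_eq_one
    rw [hMk]
    refine ⟨1 ^ p ^ 1, ?_⟩
    have h1 := H363.L4.pow_of_count (E := AlgebraicClosure F) (M := M) (p := p) hp (k := q ^ 2 - 1) (a := 1) (c := 1) hq2
      (fun y h => by rw [hy y h, map_one]) (fun y h => by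
        have := H402.Rec.four_spec_card (E := AlgebraicClosure F) M y
        rw [pow_one]
        omega)
    rw [← h1, pow_one]

/-- **Covers of `PSU_4(q)` in the defining characteristic.** -/
theorem cover_p {F : Type v} [Field F] [Fintype F] {q p : ℕ} (hF : Fintype.card F = q ^ 2) (h4 : q % 4 = 3) (hp : p.Prime)
    (h5 : 5 ≤ p) [CharP F p] {X : Type u} [Group X] [Finite X] (V : Subgroup X) [V.Normal] (hVc : IsMulCommutative V)
    (hVp : ∀ v ∈ V, v ^ p = 1) (hV : V ≠ ⊥) (e : X ⧸ V ≃* PSU 4 F q)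
    (hω : ∀ x : X, ∃ y : PSU 4 F q, orderOf y = orderOf x) : False := by
  have hpf : Fact p.Prime := ⟨hp⟩
  obtain ⟨n, -, hn⟩ := FiniteField.card F p
  obtain ⟨f, -, hq⟩ := (Nat.dvd_prime_pow hp).1 (show q ∣ p ^ (n : ℕ) by rw [← hn, hF, pow_two]; exact Dvd.intro _ rfl)
  have hf0 : f ≠ 0 := by
    rintro rfl
    rw [pow_zero] at hq
    omega
  have hpq : p ∣ q := by rw [hq]; exact dvd_pow_self p hf0
  have hpodd : p % 2 = 1 := by
    rcases hp.eq_two_or_odd with h | h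
    · omega
    · exact h
  have hfodd : Odd f := by
    rw [← Nat.not_even_iff_odd]
    rintro ⟨c, hc⟩
    rw [hq, hc, pow_add] at h4
    have h6 : p ^ c % 4 = 1 ∨ p ^ c % 4 = 3 := by
      have : (p ^ c) % 2 = 1 := Nat.odd_iff.1 (Odd.pow (Nat.odd_iff.2 hpodd))
      omega
    rw [Nat.mul_mod] at h4
    rcases h6 with h6 | h6 <;> rw [h6] at h4 <;> omega
  -- a prime `r`
  obtain ⟨r, hr, hr2, hrp⟩ : ∃ r : ℕ, r.Prime ∧ r ≠ 2 ∧ r ∣ p ^ 2 + 1 := by
    have h6 : p ^ 2 % 4 = 1 := by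
      rw [pow_two, Nat.mul_mod]
      have : p % 4 = 1 ∨ p % 4 = 3 := by omega
      rcases this with h | h <;> rw [h]
    have h7 : 25 ≤ p ^ 2 := by
      calc 25 = 5 ^ 2 := by norm_num
        _ ≤ p ^ 2 := Nat.pow_le_pow_left h5 2
    obtain ⟨c, hc⟩ : ∃ c, p ^ 2 + 1 = 2 * c := ⟨(p ^ 2 + 1) / 2, by omega⟩
    have hc1 : c ≠ 1 := by omega
    refine ⟨c.minFac, Nat.minFac_prime hc1, ?_, ?_⟩
    · intro h
      have h8 := Nat.minFac_dvd c
      rw [h] at h8
      omega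
    · rw [hc]
      exact Dvd.dvd.mul_left (Nat.minFac_dvd c) 2
  have hrq : r ∣ q ^ 2 + 1 := by
    have h6 : p ^ 2 + 1 ∣ (p ^ 2) ^ f + 1 ^ f := Odd.nat_add_dvd_pow_add_pow _ _ hfodd
    rw [one_pow, ← pow_mul, mul_comm, pow_mul, ← hq] at h6
    exact hrp.trans h6
  have hq1 : 1 ≤ q ^ 2 := Nat.one_le_pow _ _ (by omega)
  have hnr : ¬ r ∣ q ^ 2 - 1 := by
    intro h
    have h6 : r ∣ (q ^ 2 - 1) + 2 := by
      rw [show (q ^ 2 - 1) + 2 = q ^ 2 + 1 by omega]
      exact hrq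
    have h7 := (Nat.dvd_add_right h).1 h6
    exact hr2 ((Nat.prime_dvd_prime_iff_eq hr Nat.prime_two).1 h7)
  have hnp : ¬ p ∣ q ^ 2 - 1 := by
    intro h
    have h6 : p ∣ (q ^ 2 - 1) + 1 := by
      rw [Nat.sub_add_cancel hq1]
      exact dvd_pow hpq (by norm_num)
    have h7 := (Nat.dvd_add_right h).1 h6
    exact hp.one_lt.ne' (Nat.dvd_one.1 h7)
  obtain ⟨x, h, hh, hx⟩ := exists_orderOf_mul_at V (fun a ha b hb => congrArg Subtype.val (isMulCommutative_iff.1 hVc ⟨a, ha⟩ ⟨b, hb⟩))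
    hp hVp hV e.symm (P := fun x => orderOf x = p ∨ orderOf x = r)
    (fun W _ _ _ hW φ => by
      obtain ⟨x, v, h1, h2⟩ := exists_elt hp (by omega) hq hF hr hr2 hrp hW φ
      exact ⟨x, v, h1, h2⟩)
  obtain ⟨y, hy⟩ := hω h
  have h6 := dvd_of_dvd hF hp h5 hpq y (by rw [hy, hh]; exact Dvd.intro _ rfl)
  rw [hy, hh, mul_comm] at h6
  have h7 := Nat.dvd_of_mul_dvd_mul_right hp.pos h6
  rcases hx with hx | hx
  · exact hnp (hx ▸ h7)
  · exact hnr (hx ▸ h7)

end Cfsg.Agent.H373.OC
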